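import Groth.Agent.Lib.RHomRel9.Main

/-! `RHom(A, -) ≅ - ⊗^L RHom(A, R)` for a perfect algebra `A`. -/

set_option autoImplicit false
set_option linter.unusedSectionVars false
set_option linter.style.haveILetI false
set_option backward.isDefEq.respectTransparency false
set_option backward.isDefEq.respectTransparency.types false

universe u

open CategoryTheory CategoryTheory.Limits MonoidalCategory

attribute [local instance] HasDerivedCategory.standard

namespace Groth.Agent.RHomRel9

open Groth.Agent.KFlat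

variable {R A : Type u} [CommRing R] [CommRing A] (φ : R →+* A) [DTen.HasLTenMix φ]

variable {W : DRing.Cx R} (N : DRing.Cx A) (ν : N ⟶ (DCpl.coextC φ).obj W) (j : 𝟙_ (DRing.Cx R) ⟶ W)

/-- `- ⊗^L N`. -/
noncomputable abbrev mixD : Dual.D R ⥤ Dual.D A :=
  (Functor.curry.obj (DTen.LTenMix φ)).flip.obj (DerivedCategory.Q.obj N)

theorem isIso_Q_whiskerLeft [QuasiIso j] (K : DRing.Cx R) (hK : DRing.IsKFlat R K) :
    IsIso (DerivedCategory.Q.map (K ◁ j)) :=
  DT.isIso_Q_map _ (DT.quasiIso_whiskerLeft j hK)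

/-- Evaluation on a K-flat complex. -/
noncomputable def core [QuasiIso j] (K : DRing.Cx R) (hK : DRing.IsKFlat R K) :
    (DRing.restrictD φ).obj ((mixD φ N).obj (DerivedCategory.Q.obj K)) ⟶ DerivedCategory.Q.obj K :=
  haveI := isIso_Q_whiskerLeft j K hK
  (DRing.restrictD φ).map ((DTen.εMix φ).app (K, N)) ≫ (DTen.resFactors φ).hom.app _ ≫
    DerivedCategory.Q.map (ev₀ φ ν K) ≫ inv (DerivedCategory.Q.map (K ◁ j)) ≫ DerivedCategory.Q.map (ρ_ K).hom

theorem core_natural [QuasiIso j] {K K' : DRing.Cx R} (hK : DRing.IsKFlat R K) (hK' : DRing.IsKFlat R K')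
    (f : K ⟶ K') :
    (DRing.restrictD φ).map ((mixD φ N).map (DerivedCategory.Q.map f)) ≫ core φ N ν j K' hK' =
      core φ N ν j K hK ≫ DerivedCategory.Q.map f := by
  haveI := isIso_Q_whiskerLeft j K hK
  haveI := isIso_Q_whiskerLeft j K' hK'
  have n₁ : (mixD φ N).map (DerivedCategory.Q.map f) ≫ (DTen.εMix φ).app (K', N) =
      (DTen.εMix φ).app (K, N) ≫ DerivedCategory.Q.map ((DTen.extCx φ).map f ▷ N) := by
    have h := (DTen.εMix φ).naturality (Prod.mkHom f (𝟙 N))
    dsimp at h ⊢
    simp only [CategoryTheory.Functor.map_id, MonoidalCategory.whiskerLeft_id, Category.comp_id] at h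
    exact h
  have n₂ : (DRing.restrictD φ).map (DerivedCategory.Q.map ((DTen.extCx φ).map f ▷ N)) ≫
      (DTen.resFactors φ).hom.app ((DTen.mixT φ).obj (K', N)) =
      (DTen.resFactors φ).hom.app ((DTen.mixT φ).obj (K, N)) ≫
        DerivedCategory.Q.map ((DTen.resCx φ).map ((DTen.extCx φ).map f ▷ N)) :=
    (DTen.resFactors φ).hom.naturality _
  have n₃ : DerivedCategory.Q.map (f ▷ W) ≫ inv (DerivedCategory.Q.map (K' ◁ j)) =
      inv (DerivedCategory.Q.map (K ◁ j)) ≫ DerivedCategory.Q.map (f ▷ 𝟙_ _) := by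
    rw [IsIso.comp_inv_eq, Category.assoc, IsIso.eq_inv_comp, ← Functor.map_comp, ← Functor.map_comp,
      whisker_exchange]
  simp only [core, Category.assoc]
  rw [← Functor.map_comp_assoc (DRing.restrictD φ), n₁, Functor.map_comp_assoc]
  erw [reassoc_of% n₂]
  rw [
    ← Functor.map_comp_assoc DerivedCategory.Q, ev₀_natural, Functor.map_comp_assoc, reassoc_of% n₃,
    ← Functor.map_comp, ← Functor.map_comp, MonoidalCategory.rightUnitor_naturality]
  rfl

/-- Evaluation on all complexes. -/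
noncomputable def sigma [QuasiIso j] :
    DerivedCategory.Q ⋙ mixD φ N ⋙ DRing.restrictD φ ⟶ (DerivedCategory.Q : DRing.Cx R ⥤ Dual.D R) where
  app K :=
    haveI := DT.isIso_Q_map _ (DT.qis_aug K)
    (DRing.restrictD φ).map ((mixD φ N).map (inv (DerivedCategory.Q.map ((DT.aug R).app K)))) ≫
      core φ N ν j _ (DT.isKFlat_res K) ≫ DerivedCategory.Q.map ((DT.aug R).app K)
  naturality K K' f := by
    haveI := DT.isIso_Q_map _ (DT.qis_aug K)
    haveI := DT.isIso_Q_map _ (DT.qis_aug K')
    have e := (DT.aug R).naturality f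
    dsimp at e
    simp only [Functor.comp_map]
    have e' : DerivedCategory.Q.map f ≫ inv (DerivedCategory.Q.map ((DT.aug R).app K')) =
        inv (DerivedCategory.Q.map ((DT.aug R).app K)) ≫ DerivedCategory.Q.map ((DT.res R).map f) := by
      rw [IsIso.comp_inv_eq, Category.assoc, IsIso.eq_inv_comp, ← Functor.map_comp, ← Functor.map_comp, e]
    rw [← Functor.map_comp_assoc, ← Functor.map_comp, e', Functor.map_comp, Functor.map_comp_assoc,
      reassoc_of% (core_natural φ N ν j (DT.isKFlat_res K) (DT.isKFlat_res K') ((DT.res R).map f)),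
      Category.assoc, Category.assoc, ← Functor.map_comp, ← Functor.map_comp, e]

theorem sigma_app [QuasiIso j] (K : DRing.Cx R) (hK : DRing.IsKFlat R K) :
    (sigma φ N ν j).app K = core φ N ν j K hK := by
  haveI := DT.isIso_Q_map _ (DT.qis_aug K)
  change (DRing.restrictD φ).map ((mixD φ N).map (inv (DerivedCategory.Q.map ((DT.aug R).app K)))) ≫
      core φ N ν j _ (DT.isKFlat_res K) ≫ DerivedCategory.Q.map ((DT.aug R).app K) = _
  rw [← core_natural φ N ν j (DT.isKFlat_res K) hK, ← Functor.map_comp_assoc, ← Functor.map_comp,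
    IsIso.inv_hom_id, CategoryTheory.Functor.map_id, CategoryTheory.Functor.map_id, Category.id_comp]

variable [DTen.HasRHomRel φ]

/-- The comparison. -/
noncomputable def eta [QuasiIso j] : mixD φ N ⟶ DTen.RHomRel φ :=
  Localization.liftNatTrans DerivedCategory.Q (DTen.qis R) (DerivedCategory.Q ⋙ mixD φ N)
    (DerivedCategory.Q ⋙ DTen.RHomRel φ) (mixD φ N) (DTen.RHomRel φ)
    { app := fun K => (DTen.relAdj φ).homEquiv _ _ ((sigma φ N ν j).app K)
      naturality := fun K K' f => by
        have e := (sigma φ N ν j).naturality f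
        dsimp at e ⊢
        rw [← (DTen.relAdj φ).homEquiv_naturality_left, ← (DTen.relAdj φ).homEquiv_naturality_right, e] }

theorem eta_app [QuasiIso j] (K : DRing.Cx R) :
    (eta φ N ν j).app (DerivedCategory.Q.obj K) = (DTen.relAdj φ).homEquiv _ _ ((sigma φ N ν j).app K) := by
  rw [eta, Localization.liftNatTrans_app]
  simp [Localization.Lifting.iso]

theorem isIso_eta [QuasiIso j] [DTen.HasLTen R] [DTen.HasRHom R] [W.IsKInjective] (hN : DRing.IsKFlat A N) [QuasiIso ν]
    {E : DRing.Cx R} (q : E ⟶ resA φ) [IsIso (DerivedCategory.Q.map q)] [E.IsKProjective]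
    (a b : ℤ) (hb : DRing.VanishesOutside E a b) (hE : DRing.TermwiseFiniteProjective E) :
    IsIso (eta φ N ν j) := by
  suffices h : ∀ S, IsIso ((eta φ N ν j).app S) from NatIso.isIso_of_isIso_app _
  intro S
  obtain ⟨K, hK, ⟨e⟩⟩ := DT.exists_rep S
  rw [← NatTrans.isIso_app_iff_of_iso (eta φ N ν j) e, eta_app, sigma_app φ N ν j K hK]
  obtain ⟨T, l, hT, hl, -, -⟩ := KInjLib.exists_resolution (K ⊗ W)
  haveI := hT
  haveI := hl
  haveI := quasiIso_psi φ q a b hb hE ν K hK l
  haveI := isIso_cT φ T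
  haveI := DT.isIso_εMix φ hK hN
  haveI := isIso_Q_whiskerLeft j K hK
  let z : DerivedCategory.Q.obj K ⟶ DerivedCategory.Q.obj T :=
    DerivedCategory.Q.map (ρ_ K).inv ≫ DerivedCategory.Q.map (K ◁ j) ≫ DerivedCategory.Q.map l
  have hcz : core φ N ν j K hK ≫ z = (DRing.restrictD φ).map ((DTen.εMix φ).app (K, N)) ≫
      (DTen.resFactors φ).hom.app _ ≫ DerivedCategory.Q.map (ev₀ φ ν K ≫ l) := by
    simp only [core, z, Category.assoc]
    rw [← Functor.map_comp_assoc DerivedCategory.Q (ρ_ K).hom, Iso.hom_inv_id, CategoryTheory.Functor.map_id,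
      Category.id_comp, IsIso.inv_hom_id_assoc, ← Functor.map_comp]
  have key : (DTen.relAdj φ).homEquiv _ _ (core φ N ν j K hK) ≫ (DTen.RHomRel φ).map z =
      (DTen.εMix φ).app (K, N) ≫ DerivedCategory.Q.map (psi φ ν K l) ≫ cT φ T := by
    rw [← (DTen.relAdj φ).homEquiv_naturality_right, hcz, comp_cT, res_psi,
      (DTen.relAdj φ).homEquiv_naturality_left]
    rfl
  haveI : IsIso ((DTen.relAdj φ).homEquiv _ _ (core φ N ν j K hK) ≫ (DTen.RHomRel φ).map z) := by
    rw [key]; infer_instance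
  exact IsIso.of_isIso_comp_right _ ((DTen.RHomRel φ).map z)

end Groth.Agent.RHomRel9
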