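import Groth.Agent.Lib.DCpl.AwayHom
import Groth.Agent.Lib.KFlat.DTenBase
import Groth.Agent.Lib.KFlat.EvalHomPC
import Groth.Agent.Lib.KFlat.StrengthEval
import Groth.Prelude.Def_DTen5

/-! The relative internal hom is termwise coextension of scalars of a K-injective complex. -/

set_option autoImplicit false
set_option linter.unusedSectionVars false
set_option linter.style.haveILetI false
set_option backward.isDefEq.respectTransparency false

universe u

open CategoryTheory CategoryTheory.Limits MonoidalCategory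

attribute [local instance] HasDerivedCategory.standard

namespace Groth.Agent.RHomRel9

open Groth.Agent.KFlat Groth.Agent.KFlat.HomAdj

variable {R A : Type u} [CommRing R] [CommRing A] (φ : R →+* A)

/-- Evaluation at one. -/
noncomputable abbrev cu (T : DRing.Cx R) : (DTen.resCx φ).obj ((DCpl.coextC φ).obj T) ⟶ T :=
  DCpl.counitC φ T

theorem isKInjective_coext (T : DRing.Cx R) [T.IsKInjective] : ((DCpl.coextC φ).obj T).IsKInjective := by
  refine ⟨fun {L} g hL => ?_⟩
  have hL' : ((DCpl.resC φ).obj L).Acyclic := fun i =>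
    ShortComplex.Exact.map (hL i) (ModuleCat.restrictScalars.{u} φ)
  obtain ⟨H⟩ := CochainComplex.IsKInjective.nonempty_homotopy_zero ((DCpl.resC φ).map g ≫ DCpl.counitC φ T) hL'
  exact DCpl.nonempty_homotopy_adjunct φ g H

variable [DTen.HasRHomRel φ]

/-- The comparison. -/
noncomputable def cT (T : DRing.Cx R) :
    DerivedCategory.Q.obj ((DCpl.coextC φ).obj T) ⟶ (DTen.RHomRel φ).obj (DerivedCategory.Q.obj T) :=
  (DTen.relAdj φ).homEquiv _ _ ((DTen.resFactors φ).hom.app _ ≫ DerivedCategory.Q.map (cu φ T))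

theorem comp_cT {L : DRing.Cx A} {T : DRing.Cx R} (g : L ⟶ (DCpl.coextC φ).obj T) :
    DerivedCategory.Q.map g ≫ cT φ T =
      (DTen.relAdj φ).homEquiv _ _
        ((DTen.resFactors φ).hom.app L ≫ DerivedCategory.Q.map ((DTen.resCx φ).map g ≫ cu φ T)) := by
  rw [cT, ← (DTen.relAdj φ).homEquiv_naturality_left, DerivedCategory.Q.map_comp]
  refine congrArg _ ?_
  rw [← Category.assoc, ← Category.assoc]
  exact congrArg (· ≫ _) ((DTen.resFactors φ).hom.naturality g)

theorem isIso_cT (T : DRing.Cx R) [T.IsKInjective] : IsIso (cT φ T) := by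
  haveI := isKInjective_coext φ T
  suffices h : ∀ S : Dual.D A, Function.Bijective
      (fun g : S ⟶ DerivedCategory.Q.obj ((DCpl.coextC φ).obj T) => g ≫ cT φ T) by
    obtain ⟨s, hs⟩ := (h _).2 (𝟙 _)
    exact ⟨s, (h _).1 (by simpa [Category.assoc] using congrArg (cT φ T ≫ ·) hs), hs⟩
  intro S
  obtain ⟨L, -, ⟨e⟩⟩ := KFlat.DT.exists_rep S
  suffices h : Function.Bijective
      (fun g : DerivedCategory.Q.obj L ⟶ DerivedCategory.Q.obj ((DCpl.coextC φ).obj T) => g ≫ cT φ T) by
    refine ⟨fun g g' hg => (cancel_epi e.hom).1 (h.1 ?_), fun t => ?_⟩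
    · simp only [Category.assoc]
      exact congrArg (e.hom ≫ ·) hg
    · obtain ⟨g, hg⟩ := h.2 (e.hom ≫ t)
      exact ⟨e.inv ≫ g, (Category.assoc _ _ _).trans ((congrArg (e.inv ≫ ·) hg).trans (e.inv_hom_id_assoc t))⟩
  constructor
  · intro g g' hg
    obtain ⟨g, rfl⟩ := KInjLib.exists_map_eq g
    obtain ⟨g', rfl⟩ := KInjLib.exists_map_eq g'
    dsimp only at hg
    rw [comp_cT, comp_cT] at hg
    obtain ⟨H⟩ := (KInjLib.map_eq_iff _ _).1 ((cancel_epi _).1 (((DTen.relAdj φ).homEquiv _ _).injective hg))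
    obtain ⟨H'⟩ := DCpl.nonempty_homotopy_adjunct φ (g - g')
      ((Homotopy.ofEq (by simp [Functor.map_sub])).trans (Homotopy.equivSubZero H))
    exact (KInjLib.map_eq_iff _ _).2 ⟨Homotopy.equivSubZero.symm H'⟩
  · intro t
    obtain ⟨f, hf⟩ := KInjLib.exists_map_eq
      ((DTen.resFactors φ).inv.app L ≫ ((DTen.relAdj φ).homEquiv _ _).symm t)
    refine ⟨DerivedCategory.Q.map (DCpl.unitC φ L ≫ (DCpl.coextC φ).map f), ?_⟩
    dsimp only
    rw [comp_cT]
    apply ((DTen.relAdj φ).homEquiv _ _).symm.injective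
    rw [Equiv.symm_apply_apply]
    erw [DCpl.res_counit φ f]
    rw [hf, Iso.hom_inv_id_app_assoc]

end Groth.Agent.RHomRel9
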