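import Groth.Prelude.Def_DTen5
import Mathlib.LinearAlgebra.TensorProduct.Tower
import Mathlib.Algebra.Category.ModuleCat.Monoidal.Basic

/-! `X ⊗ N ≅ (X ⊗ A) ⊗_A N` for an `A`-module `N`. -/

set_option autoImplicit false
set_option linter.style.haveILetI false
set_option backward.isDefEq.respectTransparency false
set_option backward.isDefEq.respectTransparency.types false

universe u

open CategoryTheory CategoryTheory.Limits MonoidalCategory
open scoped TensorProduct

namespace Groth.Agent.RHomRel9

variable {R A : Type u} [CommRing R] [CommRing A] (φ : R →+* A)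

/-- The component. -/
noncomputable def tau₀ (X : ModuleCat.{u} R) (N : ModuleCat.{u} A) :
    X ⊗ (DTen.resM φ).obj N ⟶ (DTen.resM φ).obj ((ModuleCat.extendScalars.{u, u, u} φ).obj X ⊗ N) :=
  (ModuleCat.extendRestrictScalarsAdj.{u, u, u} φ).unit.app X ▷ (DTen.resM φ).obj N ≫
    DTen.resTen₀app φ ((ModuleCat.extendScalars.{u, u, u} φ).obj X) N

theorem bijective_tau₀ (X : ModuleCat.{u} R) (N : ModuleCat.{u} A) : Function.Bijective (tau₀ φ X N) := by
  letI : Algebra R A := φ.toAlgebra
  letI : Module R N := Module.compHom N φ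
  haveI : IsScalarTower R A N := ⟨fun r a n => by
    change (φ r * a) • n = φ r • (a • n)
    exact mul_smul _ _ _⟩
  let e := (TensorProduct.comm A (A ⊗[R] (X : Type u)) N).trans
    (TensorProduct.AlgebraTensorModule.cancelBaseChange R A A (N : Type u) (X : Type u))
  let c := TensorProduct.comm R (X : Type u) (N : Type u)
  have key : ∀ z : (X : Type u) ⊗[R] (N : Type u), e (tau₀ φ X N z) = c z := by
    intro z
    induction z using TensorProduct.induction_on with
    | zero => simp
    | add z z' hz hz' => rw [map_add, map_add, map_add, hz, hz']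
    | tmul x n =>
      change e ((((1 : A) ⊗ₜ[R] x) : A ⊗[R] (X : Type u)) ⊗ₜ[A] n) = n ⊗ₜ[R] x
      change TensorProduct.AlgebraTensorModule.cancelBaseChange R A A (N : Type u) (X : Type u)
        (n ⊗ₜ[A] ((1 : A) ⊗ₜ[R] x)) = n ⊗ₜ[R] x
      rw [TensorProduct.AlgebraTensorModule.cancelBaseChange_tmul, one_smul]
  refine ⟨fun a b h => c.injective (((key a).symm.trans (congrArg e h)).trans (key b)), fun y => ?_⟩
  refine ⟨c.symm (e y), e.injective ?_⟩
  exact (key _).trans (c.apply_symm_apply _)

theorem isIso_tau₀ (X : ModuleCat.{u} R) (N : ModuleCat.{u} A) : IsIso (tau₀ φ X N) :=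
  (ConcreteCategory.isIso_iff_bijective _).2 (bijective_tau₀ φ X N)

end Groth.Agent.RHomRel9
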