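import Groth.Agent.Lib.RHomRel9.Main
import Groth.Agent.Lib.DMod.Basic
import Groth.Agent.Lib.DMod.Homology
import Mathlib.RingTheory.PicardGroup
import Mathlib.Algebra.Homology.Double
import Mathlib.LinearAlgebra.TensorProduct.Tower

/-! `RHom(A, R)` for `A = R/I` with `I` invertible. -/

set_option autoImplicit false
set_option linter.unusedSectionVars false
set_option linter.style.haveILetI false
set_option backward.isDefEq.respectTransparency false
set_option backward.isDefEq.respectTransparency.types false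

universe u

open CategoryTheory CategoryTheory.Limits MonoidalCategory CochainComplex.HomComplex
open scoped TensorProduct

attribute [local instance] HasDerivedCategory.standard

namespace Groth.Agent.RHomRel9

open Groth.Agent.KFlat Groth.Agent.KFlat.HomAdj

variable {R A : Type u} [CommRing R] [CommRing A] [Algebra R A]

local notation "kI" => RingHom.ker (algebraMap R A)

variable (hφ : Function.Surjective (algebraMap R A)) [Module.Invertible R (RingHom.ker (algebraMap R A))]

variable (R A) in
/-- The resolution `I ⟶ R` of `A`. -/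
noncomputable abbrev kCx : DRing.Cx R :=
  HomologicalComplex.double (ModuleCat.ofHom (Submodule.subtype (kI : Submodule R R)))
    (c := ComplexShape.up ℤ) (i₀ := -1) (i₁ := 0) (by simp)

theorem isZero_kCx (p : ℤ) (h₁ : p ≠ -1) (h₀ : p ≠ 0) : IsZero ((kCx R A).X p) :=
  HomologicalComplex.isZero_double_X _ _ p h₁ h₀

variable (R A) in
/-- The generator. -/
noncomputable abbrev x0 : (kCx R A).X 0 ≅ ModuleCat.of R R :=
  HomologicalComplex.doubleXIso₁ _ _ (by decide)

variable (R A) in
/-- The relations. -/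
noncomputable abbrev x1 : (kCx R A).X (-1) ≅ ModuleCat.of R (kI : Submodule R R) :=
  HomologicalComplex.doubleXIso₀ _ _

theorem vanishes_kCx : DRing.VanishesOutside (kCx R A) (-1) 0 := fun i hi =>
  isZero_kCx i (by omega) (by omega)

include hφ in
theorem termwise_kCx : DRing.TermwiseFiniteProjective (kCx R A) := fun i => by
  by_cases h₀ : i = 0
  · subst h₀
    exact ⟨Module.Finite.equiv (x0 R A).toLinearEquiv.symm,
      Module.Projective.of_equiv (x0 R A).toLinearEquiv.symm⟩
  by_cases h₁ : i = -1
  · subst h₁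
    exact ⟨Module.Finite.equiv (x1 R A).toLinearEquiv.symm,
      Module.Projective.of_equiv (x1 R A).toLinearEquiv.symm⟩
  haveI := ModuleCat.subsingleton_of_isZero (isZero_kCx (R := R) (A := A) i h₁ h₀)
  exact ⟨inferInstance, inferInstance⟩

theorem d_kCx (y : (kCx R A).X (-1)) :
    (x0 R A).hom ((kCx R A).d (-1) 0 y) = (((x1 R A).hom y : (kI : Submodule R R)) : R) := by
  rw [HomologicalComplex.double_d _ _ (by decide)]
  simp only [ModuleCat.comp_apply]
  exact Iso.inv_hom_id_apply (x0 R A) _

/-- The image of a scalar. -/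
noncomputable def augVal (r : R) : (𝟙_ (DRing.Cx A)).X 0 :=
  (HomologicalComplex.singleObjXSelf (ComplexShape.up ℤ) 0 (𝟙_ (ModuleCat.{u} A))).inv (algebraMap R A r)

theorem coeff0_augVal (r : R) : coeff0 (S := A) (augVal r) = algebraMap R A r :=
  Iso.inv_hom_id_apply (HomologicalComplex.singleObjXSelf (ComplexShape.up ℤ) 0 (𝟙_ (ModuleCat.{u} A))) _

variable (R A) in
/-- The augmentation in degree zero. -/
noncomputable def augLin : ModuleCat.of R R ⟶ (resA (algebraMap R A)).X 0 :=
  ModuleCat.ofHom (Y := (resA (algebraMap R A)).X 0)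
    { toFun := fun r => (augVal (A := A) r :)
      map_add' := fun r s => by
        change augVal (A := A) (r + s) = augVal (A := A) r + augVal (A := A) s
        unfold augVal
        rw [map_add]
        exact map_add _ _ _
      map_smul' := fun r s => by
        change augVal (A := A) (r * s) = algebraMap R A r • augVal (A := A) s
        unfold augVal
        rw [map_mul]
        exact (HomologicalComplex.singleObjXSelf (ComplexShape.up ℤ) 0 (𝟙_ (ModuleCat.{u} A))).inv.hom.map_smul
          (algebraMap R A r) (algebraMap R A s) }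

theorem coeff0_augLin (r : R) :
    coeff0 (S := A) (show (𝟙_ (DRing.Cx A)).X 0 from augLin R A r) = algebraMap R A r :=
  coeff0_augVal r

theorem coeff0_injective {S : Type u} [CommRing S] : Function.Injective (coeff0 (S := S)) :=
  fun a b h => by rw [← coeff0_smul a, ← coeff0_smul b, h]

variable (R A) in
/-- The augmentation. -/
noncomputable def qk : kCx R A ⟶ resA (algebraMap R A) :=
  HomologicalComplex.mkHomFromDouble _ (by decide) (0 : ModuleCat.of R (kI : Submodule R R) ⟶ (resA (algebraMap R A)).X (-1))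
    (augLin R A) (by
      rw [zero_comp]
      refine ModuleCat.hom_ext (LinearMap.ext fun y => ?_)
      refine (coeff0_injective (S := A) ?_).symm
      rw [ModuleCat.comp_apply]
      refine (coeff0_augLin (y : R)).trans ?_
      rw [RingHom.mem_ker.1 y.2]
      exact (map_zero _).symm) (fun k hk => by
      obtain rfl : k = 1 := by simp at hk; omega
      exact ((ModuleCat.restrictScalars (algebraMap R A)).map_isZero (isZero_unit_X 1 (by decide))).eq_of_tgt _ _)

theorem qk_f (x : (kCx R A).X 0) : (qk R A).f 0 x = augLin R A ((x0 R A).hom x) := by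
  unfold qk
  simp [HomologicalComplex.mkHomFromDouble_f₁]

include hφ in
theorem quasiIso_qk : QuasiIso (qk R A) := by
  refine ⟨fun n => ?_⟩
  rw [quasiIsoAt_iff_isIso_homologyMap, ConcreteCategory.isIso_iff_bijective]
  have hR : ∀ m : ℤ, m ≠ 0 → Subsingleton ((resA (algebraMap R A)).X m) := fun m hm =>
    ModuleCat.subsingleton_of_isZero ((ModuleCat.restrictScalars (algebraMap R A)).map_isZero (isZero_unit_X m hm))
  refine DMod.homologyMap_bijective_of (qk R A) (i := n - 1) (j := n) (k := n + 1) (by simp) (by simp)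
    (fun x hx => ?_) (fun w y hw hy => ?_)
  · by_cases hn : n = 0
    · subst hn
      obtain ⟨r, hr⟩ := hφ (coeff0 (S := A) (show (𝟙_ (DRing.Cx A)).X 0 from x))
      refine ⟨(x0 R A).inv r, 0, ?_, ?_⟩
      · exact (isZero_kCx (R := R) (A := A) (0 + 1) (by decide) (by decide)).eq_of_tgt ((kCx R A).d 0 (0 + 1)) 0 ▸ rfl
      · rw [map_zero, add_zero, qk_f, Iso.inv_hom_id_apply]
        exact coeff0_injective (S := A) ((coeff0_augLin (A := A) r).trans hr)
    · haveI := hR n hn
      exact ⟨0, 0, map_zero _, Subsingleton.elim _ _⟩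
  · by_cases hn : n = 0
    · subst hn
      haveI := hR (0 - 1) (by decide)
      rw [Subsingleton.elim y 0, map_zero, qk_f] at hy
      have hker : (x0 R A).hom w ∈ (kI : Submodule R R) := by
        refine RingHom.mem_ker.2 ((coeff0_augLin ((x0 R A).hom w)).symm.trans ?_)
        exact (congrArg (coeff0 (S := A)) hy.symm).trans (map_zero _)
      refine ⟨(x1 R A).inv ⟨_, hker⟩, (x0 R A).toLinearEquiv.injective ?_⟩
      change (x0 R A).hom ((kCx R A).d (-1) 0 _) = (x0 R A).hom w
      rw [d_kCx, Iso.inv_hom_id_apply]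
    · refine ⟨0, ?_⟩
      rw [map_zero]
      by_cases h1 : n = -1
      · subst h1
        have e := congrArg (x0 R A).hom hw
        change (x0 R A).hom ((kCx R A).d (-1) 0 w) = _ at e
        rw [d_kCx, map_zero] at e
        exact ((x1 R A).toLinearEquiv.map_eq_zero_iff.1 (Subtype.ext e)).symm
      · haveI := ModuleCat.subsingleton_of_isZero (isZero_kCx (R := R) (A := A) n h1 hn)
        exact Subsingleton.elim _ _

/-! ### The dual -/

variable (R A) in
/-- The dual resolution. -/
noncomputable abbrev dK : DRing.Cx R := DRing.homCx (kCx R A) (𝟙_ (DRing.Cx R))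

theorem dK_ext (n : ℤ) (z z' : (dK R A).X n) (p : ℤ) (hp : p + n = 0)
    (h : ∀ x, (coc z).v p 0 hp x = (coc z').v p 0 hp x) : z = z' := by
  refine Cochain.ext (F := kCx R A) _ _ fun p' q hpq => ?_
  by_cases hq : q = 0
  · subst hq
    obtain rfl : p' = p := by omega
    exact ModuleCat.hom_ext (LinearMap.ext h)
  · exact (isZero_unit_X q hq).eq_of_tgt _ _

theorem dK_zero (n : ℤ) (h₀ : n ≠ 0) (h₁ : n ≠ 1) (z : (dK R A).X n) : z = 0 := by
  refine dK_ext n z 0 (-n) (by omega) fun x => ?_
  haveI := ModuleCat.subsingleton_of_isZero (isZero_kCx (R := R) (A := A) (-n) (by omega) (by omega))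
  rw [Subsingleton.elim x 0, map_zero, map_zero]

theorem dK_d (z : (dK R A).X 0) (y : (kCx R A).X (-1)) :
    (coc ((dK R A).d 0 1 z)).v (-1) 0 (by decide) y = -((coc z).v 0 0 (by decide) ((kCx R A).d (-1) 0 y)) := by
  change (δ 0 1 (coc z)).v (-1) 0 (by decide) y = _
  rw [δ_v 0 1 (by decide) (coc z) (-1) 0 (by decide) (-1) 0 (by decide) (by decide)]
  rw [show ((𝟙_ (DRing.Cx R)).d (-1) 0) = 0 from (isZero_unit_X (-1) (by decide)).eq_of_src _ _, comp_zero,
    zero_add, Int.negOnePow_one, Units.neg_smul, one_smul]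
  rfl

/-- A cochain of degree one as a functional on `I`. -/
noncomputable def ev1 : (dK R A).X 1 →ₗ[R] ((kI : Submodule R R) →ₗ[R] R) where
  toFun z := (((x1 R A).inv ≫ (coc z).v (-1) 0 (by decide)) ≫
    (HomologicalComplex.singleObjXSelf (ComplexShape.up ℤ) 0 (𝟙_ (ModuleCat.{u} R))).hom).hom
  map_add' z z' := by
    refine LinearMap.ext fun x => ?_
    exact map_add (HomologicalComplex.singleObjXSelf (ComplexShape.up ℤ) 0 (𝟙_ (ModuleCat.{u} R))).hom.hom
      ((coc z).v (-1) 0 (by decide) ((x1 R A).inv x)) ((coc z').v (-1) 0 (by decide) ((x1 R A).inv x))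
  map_smul' r z := by
    refine LinearMap.ext fun x => ?_
    exact (HomologicalComplex.singleObjXSelf (ComplexShape.up ℤ) 0 (𝟙_ (ModuleCat.{u} R))).hom.hom.map_smul r
      ((coc z).v (-1) 0 (by decide) ((x1 R A).inv x))

theorem ev1_apply (z : (dK R A).X 1) (x : (kI : Submodule R R)) :
    ev1 z x = coeff0 (S := R) ((coc z).v (-1) 0 (by decide) ((x1 R A).inv x)) := rfl

theorem ev1_surjective : Function.Surjective (ev1 (R := R) (A := A)) := fun f => by
  let g : (kCx R A).X (-1) ⟶ (𝟙_ (DRing.Cx R)).X 0 := (x1 R A).hom ≫ ModuleCat.ofHom f ≫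
    (HomologicalComplex.singleObjXSelf (ComplexShape.up ℤ) 0 (𝟙_ (ModuleCat.{u} R))).inv
  refine ⟨(Cochain.mk fun p q h => if hp : p = -1 then
    eqToHom (by rw [hp]) ≫ g ≫ eqToHom (by rw [show q = 0 by omega]) else 0 : Cochain _ _ 1), ?_⟩
  refine LinearMap.ext fun x => ?_
  rw [ev1_apply]
  simp [g, coeff0]
  exact Iso.inv_hom_id_apply _ _

theorem ev1_d (z : (dK R A).X 0) (x : (kI : Submodule R R)) :
    ev1 ((dK R A).d 0 1 z) x = (x : R) * -coeff0 (S := R) ((coc z).v 0 0 (by decide) ((x0 R A).inv 1)) := by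
  rw [ev1_apply, dK_d]
  have h : (kCx R A).d (-1) 0 ((x1 R A).inv x) = (x : R) • (x0 R A).inv 1 := by
    apply (x0 R A).toLinearEquiv.injective
    change (x0 R A).hom _ = (x0 R A).hom _
    rw [d_kCx, Iso.inv_hom_id_apply, map_smul, Iso.inv_hom_id_apply]
    exact (mul_one _).symm
  rw [h, map_smul]
  unfold coeff0
  rw [map_neg, map_smul, mul_neg]
  rfl

include hφ in
theorem subsingleton_dK_homology (n : ℤ) (h : n ≠ 1) : Subsingleton ((dK R A).homology n) := by
  rw [DMod.subsingleton_homology_iff (dK R A) (i := n - 1) (k := n + 1) (by simp) (by simp)]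
  intro z hz
  refine ⟨0, ?_⟩
  rw [map_zero]
  by_cases h₀ : n = 0
  · subst h₀
    refine (dK_ext 0 z 0 0 (by decide) fun x => ?_).symm
    set c := coeff0 (S := R) ((coc z).v 0 0 (by decide) ((x0 R A).inv 1)) with hc
    have hc0 : c = 0 := by
      refine FaithfulSMul.eq_of_smul_eq_smul (α := (kI : Submodule R R)) fun i => ?_
      have hz' : (dK R A).d 0 1 z = 0 := hz
      have e := congrArg (fun t => ev1 t i) hz'
      simp only [map_zero, LinearMap.zero_apply] at e
      rw [ev1_d, ← hc, mul_neg, neg_eq_zero] at e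
      rw [zero_smul]
      exact Subtype.ext ((mul_comm _ _).trans e)
    have hx : x = (x0 R A).hom x • (x0 R A).inv 1 := by
      apply (x0 R A).toLinearEquiv.injective
      change (x0 R A).hom x = (x0 R A).hom _
      rw [map_smul, Iso.inv_hom_id_apply]
      exact (mul_one _).symm
    rw [hx, map_smul, ← coeff0_smul ((coc z).v 0 0 _ ((x0 R A).inv 1)), ← hc, hc0, zero_smul, smul_zero]
    rfl
  · exact (dK_zero n h₀ h z).symm

/-- The class of a functional. -/
noncomputable def clsMap : (dK R A).X 1 →ₗ[R] ((kI : Submodule R R) →ₗ[R] A) :=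
  (LinearMap.compRight R (Algebra.linearMap R A)).comp ev1

include hφ in
theorem nonempty_homology_one :
    Nonempty ((dK R A).homology 1 ≃ₗ[R] ((kI : Submodule R R) →ₗ[R] A)) := by
  let π : (dK R A).cycles 1 →ₗ[R] (dK R A).homology 1 := ((dK R A).homologyπ 1).hom
  let F : (dK R A).cycles 1 →ₗ[R] ((kI : Submodule R R) →ₗ[R] A) := clsMap.comp ((dK R A).iCycles 1).hom
  have hker : LinearMap.ker π = LinearMap.ker F := by
    ext z
    rw [LinearMap.mem_ker, LinearMap.mem_ker]
    change (dK R A).homologyπ 1 z = 0 ↔ clsMap ((dK R A).iCycles 1 z) = 0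
    rw [DMod.homologyπ_eq_zero_iff (i := 0) (by simp)]
    constructor
    · rintro ⟨w, hw⟩
      refine LinearMap.ext fun i => ?_
      rw [← hw]
      change algebraMap R A (ev1 ((dK R A).d 0 1 w) i) = 0
      rw [ev1_d, map_mul, RingHom.mem_ker.1 i.2, zero_mul]
    · intro hF
      set f := ev1 ((dK R A).iCycles 1 z) with hf
      have hmem : ∀ i, f i ∈ (kI : Submodule R R) := fun i => RingHom.mem_ker.2 (LinearMap.congr_fun hF i)
      obtain ⟨r, hr⟩ := (Module.Invertible.toModuleEnd_bijective R (kI : Submodule R R)).2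
        (f.codRestrict _ hmem)
      let g : (kCx R A).X 0 ⟶ (𝟙_ (DRing.Cx R)).X 0 := (x0 R A).hom ≫ ModuleCat.ofHom ((-r) • LinearMap.id) ≫
        (HomologicalComplex.singleObjXSelf (ComplexShape.up ℤ) 0 (𝟙_ (ModuleCat.{u} R))).inv
      refine ⟨(Cochain.mk fun p q h => if hp : p = 0 then
        eqToHom (by rw [hp]) ≫ g ≫ eqToHom (by rw [show q = 0 by omega]) else 0 : Cochain _ _ 0), ?_⟩
      refine dK_ext 1 _ _ (-1) (by decide) fun y => ?_
      refine coeff0_injective ?_
      have e := congrArg (fun t => ((t ((x1 R A).hom y) : (kI : Submodule R R)) : R)) hr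
      simp only [LinearMap.codRestrict_apply] at e
      rw [hf, ev1_apply, Iso.hom_inv_id_apply] at e
      refine Eq.trans ?_ e
      rw [dK_d]
      simp [g, coeff0]
      exact (Iso.inv_hom_id_apply _ _).trans (congrArg (r * ·) (d_kCx y))
  have hFs : Function.Surjective F := fun t => by
    obtain ⟨f, hf⟩ := Module.projective_lifting_property (Algebra.linearMap R A) t hφ
    obtain ⟨z, hz⟩ := ev1_surjective f
    obtain ⟨c, hc⟩ := DMod.exists_cycle (K := dK R A) (j := 1) (k := 2) (by simp) z
      (dK_zero 2 (by decide) (by decide) _)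
    refine ⟨c, ?_⟩
    change clsMap ((dK R A).iCycles 1 c) = t
    rw [hc, ← hf, ← hz]
    rfl
  exact ⟨((π.quotKerEquivOfSurjective (DMod.homologyπ_surjective _ 1)).symm.trans
    (Submodule.quotEquivOfEq _ _ hker)).trans (F.quotKerEquivOfSurjective hFs)⟩

include hφ in
theorem nonempty_homology_equiv (N : Type u) [AddCommGroup N] [Module A N] [Module R N] [IsScalarTower R A N]
    (e : (A ⊗[R] (kI : Submodule R R)) ⊗[A] N ≃ₗ[A] A) :
    Nonempty ((dK R A).homology 1 ≃ₗ[R] N) := by
  obtain ⟨h⟩ := nonempty_homology_one (A := A) hφ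
  let e' : N ⊗[A] (A ⊗[R] (kI : Submodule R R)) ≃ₗ[A] A := TensorProduct.comm A N _ ≪≫ₗ e
  exact ⟨h.trans (((Module.Invertible.linearEquivDual e').trans
    (LinearMap.liftBaseChangeEquiv A).symm).restrictScalars R).symm⟩

end Groth.Agent.RHomRel9
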