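import Groth.Agent.Lib.RHomRel9.Divisor
import Groth.Agent.S13895
import Groth.Agent.Lib.DMod.PCModule

/-! `RHom(A, R)` is a shifted line bundle when the kernel is invertible. -/

set_option autoImplicit false
set_option linter.unusedSectionVars false
set_option linter.style.haveILetI false
set_option backward.isDefEq.respectTransparency false
set_option backward.isDefEq.respectTransparency.types false

universe u

open CategoryTheory CategoryTheory.Limits MonoidalCategory
open scoped TensorProduct

attribute [local instance] HasDerivedCategory.standard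

namespace Groth.Agent.RHomRel9

open Groth.Agent.KFlat

variable {R A : Type u} [CommRing R] [CommRing A] [Algebra R A]

local notation "kI" => RingHom.ker (algebraMap R A)

variable (hφ : Function.Surjective (algebraMap R A)) [Module.Invertible R (RingHom.ker (algebraMap R A))]

include hφ in
theorem isPerfect_restrict_unit :
    DRing.IsPerfect R ((DRing.restrictD (algebraMap R A)).obj (DTen.unit A)) := by
  haveI := quasiIso_qk (R := R) (A := A) hφ
  exact ⟨kCx R A, -1, 0, vanishes_kCx, termwise_kCx hφ,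
    ⟨asIso (DerivedCategory.Q.map (qk R A)) ≪≫ ((DTen.resFactors (algebraMap R A)).app _).symm⟩⟩

include hφ in
theorem nonempty_coext_iso {W : DRing.Cx R} [W.IsKInjective] (j : 𝟙_ (DRing.Cx R) ⟶ W) [QuasiIso j]
    (N : Type u) [AddCommGroup N] [Module A N]
    (e : (A ⊗[R] (kI : Submodule R R)) ⊗[A] N ≃ₗ[A] A) :
    Nonempty (DerivedCategory.Q.obj ((DCpl.coextC (algebraMap R A)).obj W) ≅ (Dual.inD A N)⟦(-1 : ℤ)⟧) := by
  haveI := KFlat.DT.hasLTen (R := R)
  haveI := KFlat.HomD.hasRHom R
  let φ := algebraMap R A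
  let C := (DCpl.coextC φ).obj W
  haveI := quasiIso_qk (R := R) (A := A) hφ
  haveI : (kCx R A).IsStrictlyLE 0 :=
    (CochainComplex.isStrictlyLE_iff _ 0).2 fun i hi => isZero_kCx i (by omega) (by omega)
  haveI : (kCx R A).IsKProjective := DMod.isKProjective 0 fun i => (termwise_kCx hφ i).2
  haveI := isIso_Q_wT φ (qk R A) W
  haveI : QuasiIso (wT φ (qk R A) W) :=
    (DerivedCategory.isIso_Q_map_iff_quasiIso (C := ModuleCat.{u} R) _).1 inferInstance
  haveI := HomD.quasiIso_homCx_map (kCx R A) j
  have key : ∀ n, Nonempty ((ModuleCat.restrictScalars φ).obj (C.homology n) ≅ (dK R A).homology n) := fun n =>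
    ⟨((C.sc n).mapHomologyIso (ModuleCat.restrictScalars φ)).symm ≪≫
      asIso (HomologicalComplex.homologyMap (wT φ (qk R A) W) n) ≪≫
      (asIso (HomologicalComplex.homologyMap ((DRing.homCxFunctor (kCx R A)).map j) n)).symm⟩
  have hz : ∀ n, n ≠ 1 → IsZero (C.homology n) := fun n hn => by
    obtain ⟨i⟩ := key n
    haveI := subsingleton_dK_homology (A := A) hφ n hn
    haveI : Subsingleton ((ModuleCat.restrictScalars φ).obj (C.homology n)) :=
      i.toLinearEquiv.toEquiv.subsingleton
    exact (DMod.isZero_iff_subsingleton _).2 (show Subsingleton (C.homology n) from this)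
  letI : Module R N := Module.compHom N φ
  haveI : IsScalarTower R A N := ⟨fun r a x => by
    change (r • a) • x = φ r • (a • x)
    rw [Algebra.smul_def]
    exact mul_smul _ _ _⟩
  obtain ⟨i⟩ := key 1
  obtain ⟨h⟩ := nonempty_homology_equiv hφ N e
  let L : ((ModuleCat.restrictScalars φ).obj (C.homology 1)) ≃ₗ[R] N := i.toLinearEquiv.trans h
  let eN : C.homology 1 ≃ₗ[A] N :=
    { toFun := fun x => L x
      map_add' := fun x y => L.map_add x y
      map_smul' := fun a x => by
        obtain ⟨r, rfl⟩ := hφ a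
        exact L.map_smul r x
      invFun := fun y => L.symm y
      left_inv := fun x => L.symm_apply_apply x
      right_inv := fun y => L.apply_symm_apply y }
  haveI : (DerivedCategory.Q.obj C).IsGE 1 := (DerivedCategory.isGE_iff _ _).2 fun n hn =>
    (hz n (by omega)).of_iso ((DerivedCategory.homologyFunctorFactors (ModuleCat.{u} A) n).app C)
  haveI : (DerivedCategory.Q.obj C).IsLE 1 := (DerivedCategory.isLE_iff _ _).2 fun n hn =>
    (hz n (by omega)).of_iso ((DerivedCategory.homologyFunctorFactors (ModuleCat.{u} A) n).app C)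
  obtain ⟨Y, ⟨eY⟩⟩ := DerivedCategory.exists_iso_singleFunctor_obj_of_isGE_of_isLE (DerivedCategory.Q.obj C) 1
  let eY' : Y ≅ ModuleCat.of A N :=
    ((DerivedCategory.singleFunctorCompHomologyFunctorIso (ModuleCat.{u} A) 1).app Y).symm ≪≫
      (DerivedCategory.homologyFunctor (ModuleCat.{u} A) 1).mapIso eY.symm ≪≫
      (DerivedCategory.homologyFunctorFactors (ModuleCat.{u} A) 1).app C ≪≫ eN.toModuleIso
  exact ⟨eY ≪≫ (DerivedCategory.singleFunctor (ModuleCat.{u} A) 1).mapIso eY' ≪≫
    (DMod.singleShiftIso 1 (ModuleCat.of A N)).symm⟩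

include hφ in
theorem nonempty_rhomRel_iso (N : Type u) [AddCommGroup N] [Module A N]
    (e : (A ⊗[R] (kI : Submodule R R)) ⊗[A] N ≃ₗ[A] A)
    [DTen.HasRHomRel (algebraMap R A)] [DTen.HasLTenMix (algebraMap R A)] :
    Nonempty (DTen.RHomRel (algebraMap R A) ≅
      (Functor.curry.obj (DTen.LTenMix (algebraMap R A))).flip.obj ((Dual.inD A N)⟦(-1 : ℤ)⟧)) := by
  obtain ⟨i⟩ := S13895.result R A (algebraMap R A) (isPerfect_restrict_unit hφ)
  obtain ⟨W, j, hW, hj, -, -⟩ := KInjLib.exists_resolution (𝟙_ (DRing.Cx R))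
  haveI := hW
  haveI := hj
  haveI := isIso_cT (algebraMap R A) W
  obtain ⟨c⟩ := nonempty_coext_iso hφ j N e
  exact ⟨i ≪≫ (Functor.curry.obj (DTen.LTenMix (algebraMap R A))).flip.mapIso
    ((DTen.RHomRel (algebraMap R A)).mapIso (asIso (DerivedCategory.Q.map j)) ≪≫
      (asIso (cT (algebraMap R A) W)).symm ≪≫ c)⟩

end Groth.Agent.RHomRel9
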