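import Groth.Agent.Lib.RHomRel9.Coext
import Groth.Agent.Lib.RHomRel9.Comp

/-! The chain level evaluation map into coextended complexes. -/

set_option autoImplicit false
set_option linter.unusedSectionVars false
set_option linter.style.haveILetI false
set_option backward.isDefEq.respectTransparency false
set_option backward.isDefEq.respectTransparency.types false

universe u

open CategoryTheory CategoryTheory.Limits MonoidalCategory CochainComplex.HomComplex

attribute [local instance] HasDerivedCategory.standard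

namespace Groth.Agent.RHomRel9

open Groth.Agent.KFlat Groth.Agent.KFlat.HomAdj

/-! ### The right unit on elements -/

section Unit

variable {S : Type u} [CommRing S]

/-- The element `1` of the unit complex. -/
noncomputable def one0 : (𝟙_ (DRing.Cx S)).X 0 :=
  (HomologicalComplex.singleObjXSelf (ComplexShape.up ℤ) 0 (𝟙_ (ModuleCat.{u} S))).inv (1 : S)

/-- The coefficient of an element of the unit complex. -/
noncomputable def coeff0 (a : (𝟙_ (DRing.Cx S)).X 0) : S :=
  (HomologicalComplex.singleObjXSelf (ComplexShape.up ℤ) 0 (𝟙_ (ModuleCat.{u} S))).hom a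

theorem coeff0_smul (a : (𝟙_ (DRing.Cx S)).X 0) : coeff0 a • one0 (S := S) = a := by
  unfold coeff0 one0
  refine (((HomologicalComplex.singleObjXSelf (ComplexShape.up ℤ) 0 (𝟙_ (ModuleCat.{u} S))).inv.hom).map_smul
    _ (1 : S)).symm.trans ?_
  exact (congrArg (fun z => (HomologicalComplex.singleObjXSelf (ComplexShape.up ℤ) 0 (𝟙_ (ModuleCat.{u} S))).inv z)
    (mul_one _)).trans (Iso.hom_inv_id_apply _ _)

theorem rho_inv (X : DRing.Cx S) (n : ℤ) (x : X.X n) :
    (ρ_ X).inv.f n x = tn n 0 n (add_zero n) x one0 := by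
  have e := congrArg (fun t => t.hom x) (HomologicalComplex.rightUnitor'_inv (c := ComplexShape.up ℤ) X n)
  exact e

theorem rho_hom (X : DRing.Cx S) (n : ℤ) (x : X.X n) (a : (𝟙_ (DRing.Cx S)).X 0) :
    (ρ_ X).hom.f n (tn n 0 n (add_zero n) x a) = coeff0 a • x := by
  conv_lhs => rw [← coeff0_smul a, tn_smul_right, map_smul, ← rho_inv]
  refine congrArg (coeff0 a • ·) ?_
  exact congrArg (fun t => t.f n x) (ρ_ X).inv_hom_id

theorem isZero_unit_X (q : ℤ) (h : q ≠ 0) : IsZero ((𝟙_ (DRing.Cx S)).X q) :=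
  HomologicalComplex.isZero_single_obj_X (ComplexShape.up ℤ) 0 _ q h

end Unit

variable {R A : Type u} [CommRing R] [CommRing A] (φ : R →+* A)

/-- `A`, as a complex of `R`-modules. -/
noncomputable abbrev resA : DRing.Cx R := (DTen.resCx φ).obj (𝟙_ (DRing.Cx A))

/-! ### The action of `A` -/

variable {E : DRing.Cx R} (q : E ⟶ resA φ)

/-- The scalar attached to an element in degree zero. -/
noncomputable def sc (e : E.X 0) : A := coeff0 (S := A) (show (𝟙_ (DRing.Cx A)).X 0 from q.f 0 e)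

/-- The action map `res X ⊗ E ⟶ res X`. -/
noncomputable def act (X : DRing.Cx A) : (DTen.resCx φ).obj X ⊗ E ⟶ (DTen.resCx φ).obj X :=
  (DTen.resCx φ).obj X ◁ q ≫ DTen.resTenCx φ X (𝟙_ (DRing.Cx A)) ≫ (DTen.resCx φ).map (ρ_ X).hom

theorem resTenCx_tn (Y Y' : DRing.Cx A) (p r n : ℤ) (h : p + r = n) (x : ((DTen.resCx φ).obj Y).X p)
    (y : ((DTen.resCx φ).obj Y').X r) :
    (DTen.resTenCx φ Y Y').f n (tn p r n h x y) = tn (K := Y) (L := Y') p r n h x y := by
  have e := congrArg (fun t => t.hom (x ⊗ₜ[R] y)) (DTen.ι_resTenCx φ Y Y' p r n h)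
  exact e

theorem act_tn (X : DRing.Cx A) (n : ℤ) (x : ((DTen.resCx φ).obj X).X n) (e : E.X 0) :
    (act φ q X).f n (tn n 0 n (add_zero n) x e) = sc φ q e • (show X.X n from x) := by
  change ((DTen.resCx φ).map (ρ_ X).hom).f n ((DTen.resTenCx φ X (𝟙_ (DRing.Cx A))).f n
    (((DTen.resCx φ).obj X ◁ q).f n (tn n 0 n (add_zero n) x e))) = _
  rw [tn_whiskerLeft, resTenCx_tn]
  exact rho_hom X n x _

theorem act_tn_ne (X : DRing.Cx A) (p r n : ℤ) (h : p + r = n) (hr : r ≠ 0)
    (x : ((DTen.resCx φ).obj X).X p) (e : E.X r) :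
    (act φ q X).f n (tn p r n h x e) = 0 := by
  change ((DTen.resCx φ).map (ρ_ X).hom).f n ((DTen.resTenCx φ X (𝟙_ (DRing.Cx A))).f n
    (((DTen.resCx φ).obj X ◁ q).f n (tn p r n h x e))) = _
  rw [tn_whiskerLeft, resTenCx_tn]
  have hs : Subsingleton ((𝟙_ (DRing.Cx A)).X r) := ModuleCat.subsingleton_of_isZero (isZero_unit_X r hr)
  have hz : tn (K := X) (L := 𝟙_ (DRing.Cx A)) p r n h x (q.f r e) = 0 :=
    (congrArg (tn (K := X) (L := 𝟙_ (DRing.Cx A)) p r n h x) (@Subsingleton.elim _ hs _ _)).trans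
      (tn_zero_right p r n h _)
  exact (congrArg (fun z => ((DTen.resCx φ).map (ρ_ X).hom).f n z) hz).trans (map_zero _)

theorem act_natural {X Y : DRing.Cx A} (g : X ⟶ Y) :
    (DTen.resCx φ).map g ▷ E ≫ act φ q Y = act φ q X ≫ (DTen.resCx φ).map g := by
  refine HomologicalComplex.hom_ext _ _ fun n => tn_ext fun p r h x e => ?_
  change (act φ q Y).f n (((DTen.resCx φ).map g ▷ E).f n (tn p r n h x e)) =
    ((DTen.resCx φ).map g).f n ((act φ q X).f n (tn p r n h x e))
  rw [tn_whiskerRight]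
  by_cases hr : r = 0
  · subst hr
    obtain rfl : p = n := by omega
    rw [act_tn, act_tn]
    exact ((g.f p).hom.map_smul _ _).symm
  · rw [act_tn_ne φ q Y p r n h hr, act_tn_ne φ q X p r n h hr]
    exact (map_zero _).symm

/-- Maps out of `E` given by evaluation. -/
noncomputable def wT (T : DRing.Cx R) :
    (DTen.resCx φ).obj ((DCpl.coextC φ).obj T) ⟶ DRing.homCx E T :=
  (adj E).homEquiv _ _ (act φ q _ ≫ cu φ T)

theorem wT_fac (T : DRing.Cx R) : wT φ q T ▷ E ≫ ev E T = act φ q _ ≫ cu φ T :=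
  ((adj E).homEquiv_counit _ _ _).symm.trans (((adj E).homEquiv _ _).symm_apply_apply _)

/-! ### The mixed tensor product after restriction -/

/-- `K ⊗ res N ⟶ res ((K ⊗ A) ⊗ N)`. -/
noncomputable def tau (K : DRing.Cx R) (N : DRing.Cx A) :
    K ⊗ (DTen.resCx φ).obj N ⟶ (DTen.resCx φ).obj ((DTen.mixT φ).obj (K, N)) :=
  (DTen.unitCx φ).app K ▷ (DTen.resCx φ).obj N ≫ DTen.resTenCx φ ((DTen.extCx φ).obj K) N

theorem tau_tn (K : DRing.Cx R) (N : DRing.Cx A) (p r n : ℤ) (h : p + r = n) (k : K.X p)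
    (x : ((DTen.resCx φ).obj N).X r) :
    (tau φ K N).f n (tn p r n h k x) =
      tn (K := (DTen.extCx φ).obj K) (L := N) p r n h (((DTen.unitCx φ).app K).f p k) x := by
  change (DTen.resTenCx φ ((DTen.extCx φ).obj K) N).f n (((DTen.unitCx φ).app K ▷ _).f n (tn p r n h k x)) = _
  rw [tn_whiskerRight]
  exact resTenCx_tn φ _ _ p r n h _ _

theorem tau_natural {K K' : DRing.Cx R} (f : K ⟶ K') (N : DRing.Cx A) :
    f ▷ (DTen.resCx φ).obj N ≫ tau φ K' N =
      tau φ K N ≫ (DTen.resCx φ).map ((DTen.extCx φ).map f ▷ N) := by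
  refine HomologicalComplex.hom_ext _ _ fun n => tn_ext fun p r h k x => ?_
  change (tau φ K' N).f n ((f ▷ _).f n (tn p r n h k x)) =
    ((DTen.resCx φ).map ((DTen.extCx φ).map f ▷ N)).f n ((tau φ K N).f n (tn p r n h k x))
  rw [tn_whiskerRight, tau_tn, tau_tn]
  refine Eq.trans ?_ (tn_whiskerRight ((DTen.extCx φ).map f) N p r n h _ _).symm
  exact congrArg (fun z => tn (K := (DTen.extCx φ).obj K') (L := N) p r n h z x)
    (congrArg (fun t => t.f p k) ((DTen.unitCx φ).naturality f))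

theorem ι_tau (K : DRing.Cx R) (N : DRing.Cx A) (p r n : ℤ) (h : p + r = n) :
    HomologicalComplex.ιTensorObj K ((DTen.resCx φ).obj N) p r n h ≫ (tau φ K N).f n =
      tau₀ φ (K.X p) (N.X r) ≫
        (DTen.resM φ).map (HomologicalComplex.ιTensorObj ((DTen.extCx φ).obj K) N p r n h) :=
  ModuleCat.hom_ext (TensorProduct.ext' fun k x => tau_tn φ K N p r n h k x)

theorem isIso_tau (K : DRing.Cx R) (N : DRing.Cx A) : IsIso (tau φ K N) := by
  haveI : ∀ n, IsIso ((tau φ K N).f n) := fun n => by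
    let a := ModuleCat.restrictCoextendScalarsAdj.{u} φ
    haveI := fun p r => isIso_tau₀ φ (K.X p) (N.X r)
    let ψ : ((DTen.mixT φ).obj (K, N)).X n ⟶
        (ModuleCat.coextendScalars.{u, u, u} φ).obj ((K ⊗ (DTen.resCx φ).obj N : DRing.Cx R).X n) :=
      HomologicalComplex.mapBifunctorDesc fun p r h => a.homEquiv _ _
        (inv (tau₀ φ (K.X p) (N.X r)) ≫ HomologicalComplex.ιTensorObj K ((DTen.resCx φ).obj N) p r n h)
    have hψ : ∀ (p r : ℤ) (h : p + r = n),
        (DTen.resM φ).map (HomologicalComplex.ιTensorObj ((DTen.extCx φ).obj K) N p r n h) ≫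
          (a.homEquiv _ _).symm ψ =
        inv (tau₀ φ (K.X p) (N.X r)) ≫ HomologicalComplex.ιTensorObj K ((DTen.resCx φ).obj N) p r n h := by
      intro p r h
      refine ((a.homEquiv_naturality_left_symm _ _).symm.trans ?_)
      rw [Equiv.symm_apply_eq]
      exact HomologicalComplex.ι_mapBifunctorDesc _ p r h
    refine ⟨(a.homEquiv _ _).symm ψ, ?_, ?_⟩
    · refine HomologicalComplex.mapBifunctor.hom_ext fun p r h => ?_
      refine ((Category.assoc _ _ _).symm.trans (congrArg (· ≫ (a.homEquiv _ _).symm ψ) (ι_tau φ K N p r n h))).trans ?_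
      refine ((Category.assoc _ _ _).trans (congrArg (_ ≫ ·) (hψ p r h))).trans ?_
      exact (IsIso.hom_inv_id_assoc _ _).trans (Category.comp_id _).symm
    · apply (a.homEquiv _ _).injective
      refine HomologicalComplex.mapBifunctor.hom_ext fun p r h => ?_
      refine (a.homEquiv_naturality_left _ _).symm.trans ?_
      refine Eq.trans ?_ (a.homEquiv_naturality_left _ _)
      refine congrArg _ ?_
      change (DTen.resM φ).map (HomologicalComplex.ιTensorObj ((DTen.extCx φ).obj K) N p r n h) ≫ _ =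
        (DTen.resM φ).map (HomologicalComplex.ιTensorObj ((DTen.extCx φ).obj K) N p r n h) ≫ 𝟙 _
      refine ((Category.assoc _ _ _).symm.trans (congrArg (· ≫ (tau φ K N).f n) (hψ p r h))).trans ?_
      refine ((Category.assoc _ _ _).trans (congrArg (_ ≫ ·) (ι_tau φ K N p r n h))).trans ?_
      exact (IsIso.inv_hom_id_assoc _ _).trans (Category.comp_id _).symm
  exact HomologicalComplex.Hom.isIso_of_components (tau φ K N)

theorem tau_act (K : DRing.Cx R) (N : DRing.Cx A) :
    tau φ K N ▷ E ≫ act φ q _ = (α_ _ _ _).hom ≫ K ◁ act φ q N ≫ tau φ K N := by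
  refine HomologicalComplex.hom_ext _ _ fun n => tn_ext fun s r h y e => ?_
  let al := (α_ K ((DTen.resCx φ).obj N) E).hom
  let G : (K ⊗ (DTen.resCx φ).obj N : DRing.Cx R).X s →ₗ[R] ((DTen.resCx φ).obj ((DTen.mixT φ).obj (K, N))).X n :=
    { toFun := fun y => (tau φ K N ▷ E ≫ act φ q _).f n (tn s r n h y e) -
        (al ≫ K ◁ act φ q N ≫ tau φ K N).f n (tn s r n h y e)
      map_add' := fun y y' => by simp only [tn_add_left, map_add]; abel
      map_smul' := fun c y => by simp only [tn_smul_left, map_smul, RingHom.id_apply, smul_sub] }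
  suffices hG : ModuleCat.ofHom G = 0 from
    sub_eq_zero.1 (congrArg (fun t => t.hom y) hG)
  refine tn_ext fun i j hij k x => ?_
  change (tau φ K N ▷ E ≫ act φ q _).f n (tn s r n h (tn i j s hij k x) e) -
    (al ≫ K ◁ act φ q N ≫ tau φ K N).f n (tn s r n h (tn i j s hij k x) e) = 0
  rw [sub_eq_zero]
  change (act φ q _).f n ((tau φ K N ▷ E).f n (tn s r n h (tn i j s hij k x) e)) =
    (tau φ K N).f n ((K ◁ act φ q N).f n ((α_ K ((DTen.resCx φ).obj N) E).hom.f n (tn s r n h (tn i j s hij k x) e)))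
  rw [tn_whiskerRight, tau_tn]
  by_cases hr : r = 0
  · subst hr
    obtain rfl : s = n := by omega
    rw [tn_assoc i j 0 s j s hij h (add_zero j) hij, tn_whiskerLeft, act_tn, act_tn, tau_tn]
    exact (tn_smul_right (K := (DTen.extCx φ).obj K) (L := N) i j s hij _ _ _).symm
  · rw [tn_assoc i j r s (j + r) n hij h rfl (by omega), tn_whiskerLeft, act_tn_ne φ q _ s r n h hr,
      act_tn_ne φ q N j r (j + r) rfl hr, tn_zero_right, map_zero]

end Groth.Agent.RHomRel9
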