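import Groth.Agent.Lib.RHomRel9.Key

/-! Evaluation into coextended complexes is a quasi-isomorphism for perfect algebras. -/

set_option autoImplicit false
set_option linter.unusedSectionVars false
set_option linter.style.haveILetI false
set_option backward.isDefEq.respectTransparency false
set_option backward.isDefEq.respectTransparency.types false

universe u

open CategoryTheory CategoryTheory.Limits MonoidalCategory CochainComplex.HomComplex

attribute [local instance] HasDerivedCategory.standard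

namespace Groth.Agent.RHomRel9

open Groth.Agent.KFlat Groth.Agent.KFlat.HomAdj

variable {R A : Type u} [CommRing R] [CommRing A] (φ : R →+* A)

section Pre

variable {E E' : DRing.Cx R} (q : E ⟶ E')

/-- Restriction of cochains along `q`. -/
noncomputable def pre (T : DRing.Cx R) : DRing.homCx E' T ⟶ DRing.homCx E T :=
  (adj E).homEquiv _ _ (DRing.homCx E' T ◁ q ≫ ev E' T)

theorem pre_fac (T : DRing.Cx R) : pre q T ▷ E ≫ ev E T = DRing.homCx E' T ◁ q ≫ ev E' T :=
  ((adj E).homEquiv_counit _ _ _).symm.trans (((adj E).homEquiv _ _).symm_apply_apply _)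

variable [DTen.HasLTen R] [DTen.HasRHom R]

theorem isIso_Q_pre (T : DRing.Cx R) [T.IsKInjective] [IsIso (DerivedCategory.Q.map q)] :
    IsIso (DerivedCategory.Q.map (pre q T)) := by
  haveI := HomD.isIso_κ_of_isKInjective E T
  haveI := HomD.isIso_κ_of_isKInjective E' T
  let Q' := DerivedCategory.Q.obj E'
  let Q₀ := DerivedCategory.Q.obj E
  let r : (DTen.RHomR R Q').obj (DerivedCategory.Q.obj T) ⟶ (DTen.RHomR R Q₀).obj (DerivedCategory.Q.obj T) :=
    DTen.RHomMap (DerivedCategory.Q.map q) _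
  haveI : IsIso r := by
    change IsIso (((DTen.RHom R).map (DerivedCategory.Q.map q).op).app (DerivedCategory.Q.obj T))
    infer_instance
  have h : DerivedCategory.Q.map (pre q T) ≫ HomD.κ E T = HomD.κ E' T ≫ r := by
    apply ((DTen.rhomAdj R Q₀).homEquiv _ _).symm.injective
    rw [Adjunction.homEquiv_counit, Adjunction.homEquiv_counit]
    change HomD.TT (DerivedCategory.Q.map (pre q T) ≫ HomD.κ E T) (𝟙 Q₀) ≫ DTen.ev _ _ =
      HomD.TT (HomD.κ E' T ≫ r) (𝟙 Q₀) ≫ DTen.ev _ _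
    rw [show HomD.TT (DerivedCategory.Q.map (pre q T) ≫ HomD.κ E T) (𝟙 Q₀) =
        HomD.TT (DerivedCategory.Q.map (pre q T)) (𝟙 Q₀) ≫ HomD.TT (HomD.κ E T) (𝟙 Q₀) by
          rw [HomD.TT_comp, Category.id_comp],
      show HomD.TT (HomD.κ E' T ≫ r) (𝟙 Q₀) = HomD.TT (HomD.κ E' T) (𝟙 Q₀) ≫ HomD.TT r (𝟙 Q₀) by
          rw [HomD.TT_comp, Category.id_comp], Category.assoc, Category.assoc,
      show HomD.TT r (𝟙 Q₀) ≫ DTen.ev Q₀ _ = HomD.TT (𝟙 _) (DerivedCategory.Q.map q) ≫ DTen.ev Q' _ from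
        DTen.RHom_map_ev _ _,
      ← Category.assoc (HomD.TT (HomD.κ E' T) (𝟙 Q₀)), HomD.TT_comp, Category.comp_id, Category.id_comp]
    rw [show HomD.TT (HomD.κ E' T) (DerivedCategory.Q.map q) =
        HomD.TT (𝟙 (DerivedCategory.Q.obj (DRing.homCx E' T))) (DerivedCategory.Q.map q) ≫
          HomD.TT (HomD.κ E' T) (𝟙 Q') by rw [HomD.TT_comp, Category.comp_id, Category.id_comp], Category.assoc]
    have n₁ := (DTen.ε R).naturality (Prod.mkHom (pre q T) (𝟙 E))
    have n₂ := (DTen.ε R).naturality (Prod.mkHom (𝟙 (DRing.homCx E' T)) q)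
    dsimp at n₁ n₂
    simp only [CategoryTheory.Functor.map_id, MonoidalCategory.whiskerLeft_id, MonoidalCategory.id_whiskerRight,
      Category.id_comp, Category.comp_id] at n₁ n₂
    refine (congrArg (_ ≫ ·) (HomD.κ_fac E T)).trans ?_
    refine Eq.trans ?_ (congrArg (_ ≫ ·) (HomD.κ_fac E' T)).symm
    rw [reassoc_of% n₁, reassoc_of% n₂, ← Functor.map_comp, ← Functor.map_comp, pre_fac]
  haveI : IsIso (DerivedCategory.Q.map (pre q T) ≫ HomD.κ E T) := by rw [h]; infer_instance
  exact IsIso.of_isIso_comp_right _ (HomD.κ E T)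

end Pre

theorem cu_apply (T : DRing.Cx R) (n : ℤ) (c : ((DCpl.coextC φ).obj T).X n) :
    (cu φ T).f n c = ModuleCat.CoextendScalars.equiv φ (T.X n) c (show (ModuleCat.restrictScalars φ).obj (ModuleCat.of A A) from (1 : A)) := rfl

theorem wT_v {E : DRing.Cx R} (q : E ⟶ resA φ) (T : DRing.Cx R) (n : ℤ)
    (c : ((DTen.resCx φ).obj ((DCpl.coextC φ).obj T)).X n) (x : E.X 0) :
    (coc ((wT φ q T).f n c)).v 0 n (zero_add n) x =
      (cu φ T).f n (sc φ q x • (show ((DCpl.coextC φ).obj T).X n from c)) := by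
  have e := congrArg (fun t => t.f n (tn n 0 n (add_zero n) c x)) (wT_fac φ q T)
  simp only [HomologicalComplex.comp_f, ModuleCat.comp_apply] at e
  rw [tn_whiskerRight, ev_tn, act_tn] at e
  exact e

theorem bijective_wT_id (T : DRing.Cx R) (n : ℤ) : Function.Bijective ((wT φ (𝟙 (resA φ)) T).f n) := by
  have hsc : ∀ a : A, sc φ (𝟙 (resA φ)) (show (resA φ).X 0 from a • one0 (S := A)) = a := fun a => by
    change coeff0 (S := A) (a • one0) = a
    unfold coeff0 one0
    rw [map_smul, Iso.inv_hom_id_apply]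
    exact mul_one a
  have hco : ∀ (c : ((DTen.resCx φ).obj ((DCpl.coextC φ).obj T)).X n) (a : A),
      (cu φ T).f n (a • (show ((DCpl.coextC φ).obj T).X n from c)) =
        ModuleCat.CoextendScalars.equiv φ (T.X n) c a := fun c a => by
    rw [cu_apply]
    exact congrArg (fun b => ModuleCat.CoextendScalars.equiv φ (T.X n) c b) (one_mul a)
  refine ⟨fun c c' h => ?_, fun z => ?_⟩
  · refine ModuleCat.CoextendScalars.ext (LinearMap.ext fun a => ?_)
    have e := congrArg (fun w => (coc w).v 0 n (zero_add n) (show (resA φ).X 0 from a • one0 (S := A))) h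
    dsimp only at e
    rw [wT_v, wT_v, hsc, hco, hco] at e
    exact e
  · let f : (ModuleCat.restrictScalars φ).obj (ModuleCat.of A A) →ₗ[R] T.X n :=
      { toFun := fun a => (coc z).v 0 n (zero_add n) (show (resA φ).X 0 from (show A from a) • one0 (S := A))
        map_add' := fun a b => by
          refine Eq.trans ?_ (((coc z).v 0 n (zero_add n)).hom.map_add _ _)
          exact congrArg ((coc z).v 0 n (zero_add n)) (add_smul (show A from a) (show A from b) (one0 (S := A)))
        map_smul' := fun r a => by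
          refine Eq.trans ?_ (((coc z).v 0 n (zero_add n)).hom.map_smul r _)
          exact congrArg ((coc z).v 0 n (zero_add n)) (mul_smul (φ r) (show A from a) (one0 (S := A))) }
    refine ⟨(ModuleCat.CoextendScalars.equiv φ (T.X n)).symm f, ?_⟩
    refine Cochain.ext (F := resA φ) (G := T) _ _ fun p m hpm => ModuleCat.hom_ext (LinearMap.ext fun x => ?_)
    by_cases hp : p = 0
    · subst hp
      obtain rfl : n = m := by omega
      refine (wT_v φ _ T n _ x).trans ?_
      rw [hco]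
      refine Eq.trans ?_ (congrArg (fun y => (coc z).v 0 n (zero_add n) y) (coeff0_smul (S := A) x))
      exact LinearMap.congr_fun ((ModuleCat.CoextendScalars.equiv φ (T.X n)).apply_symm_apply f) _
    · have hs : Subsingleton ((resA φ).X p) := ModuleCat.subsingleton_of_isZero
        ((ModuleCat.restrictScalars φ).map_isZero (isZero_unit_X p hp))
      rw [@Subsingleton.elim _ hs x 0, map_zero, map_zero]

theorem wT_eq {E : DRing.Cx R} (q : E ⟶ resA φ) (T : DRing.Cx R) :
    wT φ q T = wT φ (𝟙 (resA φ)) T ≫ pre q T := by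
  apply ((adj E).homEquiv _ _).symm.injective
  rw [Adjunction.homEquiv_counit, Adjunction.homEquiv_counit]
  change wT φ q T ▷ E ≫ ev E T = (wT φ (𝟙 _) T ≫ pre q T) ▷ E ≫ ev E T
  rw [wT_fac, comp_whiskerRight, Category.assoc, pre_fac, ← whisker_exchange_assoc, wT_fac]
  simp [act]

/-- The evaluation map. -/
noncomputable def ev₀ {W : DRing.Cx R} {N : DRing.Cx A} (ν : N ⟶ (DCpl.coextC φ).obj W) (K : DRing.Cx R) :
    (DTen.resCx φ).obj ((DTen.mixT φ).obj (K, N)) ⟶ K ⊗ W :=
  haveI := isIso_tau φ K N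
  inv (tau φ K N) ≫ K ◁ ((DTen.resCx φ).map ν ≫ cu φ W)

theorem ev₀_natural {W : DRing.Cx R} {N : DRing.Cx A} (ν : N ⟶ (DCpl.coextC φ).obj W) {K K' : DRing.Cx R}
    (f : K ⟶ K') :
    (DTen.resCx φ).map ((DTen.extCx φ).map f ▷ N) ≫ ev₀ φ ν K' = ev₀ φ ν K ≫ f ▷ W := by
  haveI := isIso_tau φ K N
  haveI := isIso_tau φ K' N
  rw [ev₀, ev₀, ← cancel_epi (tau φ K N), Category.assoc, IsIso.hom_inv_id_assoc, ← reassoc_of% (tau_natural φ f N),
    IsIso.hom_inv_id_assoc, whisker_exchange]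

/-- The adjunct of the evaluation map. -/
noncomputable def psi {W : DRing.Cx R} {N : DRing.Cx A} (ν : N ⟶ (DCpl.coextC φ).obj W) (K : DRing.Cx R)
    {T : DRing.Cx R} (l : K ⊗ W ⟶ T) : (DTen.mixT φ).obj (K, N) ⟶ (DCpl.coextC φ).obj T :=
  DCpl.unitC φ _ ≫ (DCpl.coextC φ).map (ev₀ φ ν K ≫ l)

theorem res_psi {W : DRing.Cx R} {N : DRing.Cx A} (ν : N ⟶ (DCpl.coextC φ).obj W) (K : DRing.Cx R)
    {T : DRing.Cx R} (l : K ⊗ W ⟶ T) : (DTen.resCx φ).map (psi φ ν K l) ≫ cu φ T = ev₀ φ ν K ≫ l :=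
  DCpl.res_counit φ _

variable [DTen.HasLTen R] [DTen.HasRHom R]

theorem isIso_Q_wT {E : DRing.Cx R} (q : E ⟶ resA φ) [IsIso (DerivedCategory.Q.map q)] (T : DRing.Cx R)
    [T.IsKInjective] : IsIso (DerivedCategory.Q.map (wT φ q T)) := by
  haveI : ∀ n, IsIso ((wT φ (𝟙 (resA φ)) T).f n) := fun n =>
    (ConcreteCategory.isIso_iff_bijective _).2 (bijective_wT_id φ T n)
  haveI : IsIso (wT φ (𝟙 (resA φ)) T) := HomologicalComplex.Hom.isIso_of_components _
  haveI := isIso_Q_pre q T
  rw [wT_eq, Functor.map_comp]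
  infer_instance

theorem quasiIso_psi {E : DRing.Cx R} (q : E ⟶ resA φ) [IsIso (DerivedCategory.Q.map q)] [E.IsKProjective]
    (a b : ℤ) (hb : DRing.VanishesOutside E a b) (hE : DRing.TermwiseFiniteProjective E)
    {W : DRing.Cx R} [W.IsKInjective] {N : DRing.Cx A} (ν : N ⟶ (DCpl.coextC φ).obj W) [QuasiIso ν]
    (K : DRing.Cx R) (hK : DRing.IsKFlat R K) {T : DRing.Cx R} [T.IsKInjective] (l : K ⊗ W ⟶ T) [QuasiIso l] :
    QuasiIso (psi φ ν K l) := by
  haveI := isIso_tau φ K N
  have sq : tau φ K N ≫ (DTen.resCx φ).map (psi φ ν K l) ≫ wT φ q T =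
      K ◁ ((DTen.resCx φ).map ν ≫ wT φ q W) ≫ θ K E W ≫ (DRing.homCxFunctor E).map l := by
    apply ((adj E).homEquiv _ _).symm.injective
    rw [Adjunction.homEquiv_counit, Adjunction.homEquiv_counit]
    change (tau φ K N ≫ (DTen.resCx φ).map (psi φ ν K l) ≫ wT φ q T) ▷ E ≫ ev E T =
      (K ◁ ((DTen.resCx φ).map ν ≫ wT φ q W) ≫ θ K E W ≫ (DRing.homCxFunctor E).map l) ▷ E ≫ ev E T
    have hl : (DRing.homCxFunctor E).map l ▷ E ≫ ev E T = ev E (K ⊗ W) ≫ l := (adj E).counit.naturality l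
    simp only [comp_whiskerRight, Category.assoc]
    rw [wT_fac, hl, reassoc_of% (θ_fac K E W), reassoc_of% (act_natural φ q (psi φ ν K l)), res_psi,
      reassoc_of% (tau_act φ q K N), ev₀]
    simp only [Category.assoc, IsIso.hom_inv_id_assoc]
    have hX : ((DTen.resCx φ).map ν ≫ wT φ q W) ▷ E ≫ ev E W =
        act φ q N ≫ (DTen.resCx φ).map ν ≫ cu φ W := by
      rw [comp_whiskerRight, Category.assoc, wT_fac, reassoc_of% (act_natural φ q ν)]
    rw [associator_naturality_middle_assoc, ← MonoidalCategory.whiskerLeft_comp_assoc,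
      ← MonoidalCategory.whiskerLeft_comp_assoc, hX]
  haveI := isIso_Q_wT φ q T
  haveI := isIso_Q_wT φ q W
  haveI : QuasiIso ((DTen.resCx φ).map ν) :=
    (HomologicalComplex.quasiIso_map_iff_of_preservesHomology ν (ModuleCat.restrictScalars φ)).2 inferInstance
  haveI : QuasiIso ((DTen.resCx φ).map ν ≫ wT φ q W) := by
    haveI : QuasiIso (wT φ q W) := (DerivedCategory.isIso_Q_map_iff_quasiIso (C := ModuleCat.{u} R) _).1 inferInstance
    infer_instance
  haveI := DT.quasiIso_whiskerLeft ((DTen.resCx φ).map ν ≫ wT φ q W) hK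
  haveI := HomAdj.isIso_θ_right E hb hE K W
  haveI := HomD.quasiIso_homCx_map E l
  haveI h1 : QuasiIso (tau φ K N ≫ (DTen.resCx φ).map (psi φ ν K l) ≫ wT φ q T) := by rw [sq]; infer_instance
  haveI : QuasiIso (wT φ q T) := (DerivedCategory.isIso_Q_map_iff_quasiIso (C := ModuleCat.{u} R) _).1 inferInstance
  haveI := quasiIso_of_comp_left (tau φ K N) ((DTen.resCx φ).map (psi φ ν K l) ≫ wT φ q T)
  haveI : QuasiIso ((DTen.resCx φ).map (psi φ ν K l)) :=
    quasiIso_of_comp_right ((DTen.resCx φ).map (psi φ ν K l)) (wT φ q T)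
  exact (HomologicalComplex.quasiIso_map_iff_of_preservesHomology (psi φ ν K l)
    (ModuleCat.restrictScalars φ)).1 inferInstance

end Groth.Agent.RHomRel9
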